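import Cfsg.Agent.ONMult.ConeData

/-! Checks of the tree. -/

set_option autoImplicit false
set_option Elab.async false
set_option maxRecDepth 100000

namespace Cfsg.Agent.ONMult

open Cfsg.Agent.CosetCert Cfsg.Agent.CocycleCert

theorem tree_at0 : allFrom cert.treeB 0 8000 = true := by decide +kernel

theorem tree_at8000 : allFrom cert.treeB 8000 8000 = true := by decide +kernel

theorem tree_at16000 : allFrom cert.treeB 16000 8000 = true := by decide +kernel

theorem tree_at24000 : allFrom cert.treeB 24000 8000 = true := by decide +kernel

theorem tree_at32000 : allFrom cert.treeB 32000 8000 = true := by decide +kernel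

theorem tree_at40000 : allFrom cert.treeB 40000 8000 = true := by decide +kernel

theorem tree_at48000 : allFrom cert.treeB 48000 8000 = true := by decide +kernel

theorem tree_at56000 : allFrom cert.treeB 56000 8000 = true := by decide +kernel

theorem tree_at64000 : allFrom cert.treeB 64000 8000 = true := by decide +kernel

theorem tree_at72000 : allFrom cert.treeB 72000 8000 = true := by decide +kernel

theorem tree_at80000 : allFrom cert.treeB 80000 8000 = true := by decide +kernel

theorem tree_at88000 : allFrom cert.treeB 88000 8000 = true := by decide +kernel

theorem tree_at96000 : allFrom cert.treeB 96000 8000 = true := by decide +kernel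

theorem tree_at104000 : allFrom cert.treeB 104000 8000 = true := by decide +kernel

theorem tree_at112000 : allFrom cert.treeB 112000 8000 = true := by decide +kernel

theorem tree_at120000 : allFrom cert.treeB 120000 2760 = true := by decide +kernel

theorem tree_ok : ∀ c, c < 122760 → cert.treeB c = true := by
  have h0 : ∀ i, i < 0 → cert.treeB i = true := forall_lt_zero
  have h1 := forall_lt_step (b := 8000) h0 tree_at0 rfl
  have h2 := forall_lt_step (b := 16000) h1 tree_at8000 rfl
  have h3 := forall_lt_step (b := 24000) h2 tree_at16000 rfl
  have h4 := forall_lt_step (b := 32000) h3 tree_at24000 rfl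
  have h5 := forall_lt_step (b := 40000) h4 tree_at32000 rfl
  have h6 := forall_lt_step (b := 48000) h5 tree_at40000 rfl
  have h7 := forall_lt_step (b := 56000) h6 tree_at48000 rfl
  have h8 := forall_lt_step (b := 64000) h7 tree_at56000 rfl
  have h9 := forall_lt_step (b := 72000) h8 tree_at64000 rfl
  have h10 := forall_lt_step (b := 80000) h9 tree_at72000 rfl
  have h11 := forall_lt_step (b := 88000) h10 tree_at80000 rfl
  have h12 := forall_lt_step (b := 96000) h11 tree_at88000 rfl
  have h13 := forall_lt_step (b := 104000) h12 tree_at96000 rfl
  have h14 := forall_lt_step (b := 112000) h13 tree_at104000 rfl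
  have h15 := forall_lt_step (b := 120000) h14 tree_at112000 rfl
  have h16 := forall_lt_step (b := 122760) h15 tree_at120000 rfl
  exact h16

end Cfsg.Agent.ONMult
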