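import Cfsg.Agent.ONMult.ConeData

/-! Checks of the known edges. -/

set_option autoImplicit false
set_option Elab.async false
set_option maxRecDepth 100000

namespace Cfsg.Agent.ONMult

open Cfsg.Agent.CosetCert Cfsg.Agent.CocycleCert

theorem var_at0 : allFrom (fun p => cert.varB (cone.E p)) 0 1500 = true := by decide +kernel

theorem var_at3000 : allFrom (fun p => cert.varB (cone.E p)) 3000 1500 = true := by decide +kernel

theorem var_at6000 : allFrom (fun p => cert.varB (cone.E p)) 6000 1500 = true := by decide +kernel

theorem var_at9000 : allFrom (fun p => cert.varB (cone.E p)) 9000 1500 = true := by decide +kernel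

theorem var_at12000 : allFrom (fun p => cert.varB (cone.E p)) 12000 1500 = true := by decide +kernel

theorem var_at15000 : allFrom (fun p => cert.varB (cone.E p)) 15000 1500 = true := by decide +kernel

theorem var_at18000 : allFrom (fun p => cert.varB (cone.E p)) 18000 1500 = true := by decide +kernel

theorem var_at21000 : allFrom (fun p => cert.varB (cone.E p)) 21000 1500 = true := by decide +kernel

theorem var_at24000 : allFrom (fun p => cert.varB (cone.E p)) 24000 1500 = true := by decide +kernel

theorem var_at27000 : allFrom (fun p => cert.varB (cone.E p)) 27000 1500 = true := by decide +kernel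


end Cfsg.Agent.ONMult
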