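import Cfsg.Agent.ONMult.ConeData

/-! Checks of the known edges. -/

set_option autoImplicit false
set_option Elab.async false
set_option maxRecDepth 100000

namespace Cfsg.Agent.ONMult

open Cfsg.Agent.CosetCert Cfsg.Agent.CocycleCert

theorem var_at1500 : allFrom (fun p => cert.varB (cone.E p)) 1500 1500 = true := by decide +kernel

theorem var_at4500 : allFrom (fun p => cert.varB (cone.E p)) 4500 1500 = true := by decide +kernel

theorem var_at7500 : allFrom (fun p => cert.varB (cone.E p)) 7500 1500 = true := by decide +kernel

theorem var_at10500 : allFrom (fun p => cert.varB (cone.E p)) 10500 1500 = true := by decide +kernel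

theorem var_at13500 : allFrom (fun p => cert.varB (cone.E p)) 13500 1500 = true := by decide +kernel

theorem var_at16500 : allFrom (fun p => cert.varB (cone.E p)) 16500 1500 = true := by decide +kernel

theorem var_at19500 : allFrom (fun p => cert.varB (cone.E p)) 19500 1500 = true := by decide +kernel

theorem var_at22500 : allFrom (fun p => cert.varB (cone.E p)) 22500 1500 = true := by decide +kernel

theorem var_at25500 : allFrom (fun p => cert.varB (cone.E p)) 25500 1500 = true := by decide +kernel

theorem var_at28500 : allFrom (fun p => cert.varB (cone.E p)) 28500 609 = true := by decide +kernel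


end Cfsg.Agent.ONMult
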