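import Cfsg.Agent.ONMult.ConeLeaves
import Cfsg.Agent.ONMult.ConeTree
import Cfsg.Agent.ONMult.ConeVar0
import Cfsg.Agent.ONMult.ConeVar1

/-! All checks combined. -/

set_option autoImplicit false
set_option Elab.async false
set_option maxRecDepth 100000

namespace Cfsg.Agent.ONMult

open Cfsg.Agent.CosetCert Cfsg.Agent.CocycleCert

theorem var_ok : ∀ p, p < 29109 → cert.varB (cone.E p) = true := by
  have h0 : ∀ p, p < 0 → cert.varB (cone.E p) = true := forall_lt_zero (P := fun p => cert.varB (cone.E p) = true)
  have h1 := forall_lt_step (p := fun p => cert.varB (cone.E p)) (b := 1500) h0 var_at0 rfl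
  have h2 := forall_lt_step (p := fun p => cert.varB (cone.E p)) (b := 3000) h1 var_at1500 rfl
  have h3 := forall_lt_step (p := fun p => cert.varB (cone.E p)) (b := 4500) h2 var_at3000 rfl
  have h4 := forall_lt_step (p := fun p => cert.varB (cone.E p)) (b := 6000) h3 var_at4500 rfl
  have h5 := forall_lt_step (p := fun p => cert.varB (cone.E p)) (b := 7500) h4 var_at6000 rfl
  have h6 := forall_lt_step (p := fun p => cert.varB (cone.E p)) (b := 9000) h5 var_at7500 rfl
  have h7 := forall_lt_step (p := fun p => cert.varB (cone.E p)) (b := 10500) h6 var_at9000 rfl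
  have h8 := forall_lt_step (p := fun p => cert.varB (cone.E p)) (b := 12000) h7 var_at10500 rfl
  have h9 := forall_lt_step (p := fun p => cert.varB (cone.E p)) (b := 13500) h8 var_at12000 rfl
  have h10 := forall_lt_step (p := fun p => cert.varB (cone.E p)) (b := 15000) h9 var_at13500 rfl
  have h11 := forall_lt_step (p := fun p => cert.varB (cone.E p)) (b := 16500) h10 var_at15000 rfl
  have h12 := forall_lt_step (p := fun p => cert.varB (cone.E p)) (b := 18000) h11 var_at16500 rfl
  have h13 := forall_lt_step (p := fun p => cert.varB (cone.E p)) (b := 19500) h12 var_at18000 rfl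
  have h14 := forall_lt_step (p := fun p => cert.varB (cone.E p)) (b := 21000) h13 var_at19500 rfl
  have h15 := forall_lt_step (p := fun p => cert.varB (cone.E p)) (b := 22500) h14 var_at21000 rfl
  have h16 := forall_lt_step (p := fun p => cert.varB (cone.E p)) (b := 24000) h15 var_at22500 rfl
  have h17 := forall_lt_step (p := fun p => cert.varB (cone.E p)) (b := 25500) h16 var_at24000 rfl
  have h18 := forall_lt_step (p := fun p => cert.varB (cone.E p)) (b := 27000) h17 var_at25500 rfl
  have h19 := forall_lt_step (p := fun p => cert.varB (cone.E p)) (b := 28500) h18 var_at27000 rfl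
  have h20 := forall_lt_step (p := fun p => cert.varB (cone.E p)) (b := 29109) h19 var_at28500 rfl
  exact h20

theorem checked : Cone.Checked cert cone where
  d_eq := by decide +kernel
  n_pos := by decide +kernel
  K_pos := by decide +kernel
  relsLen := by decide +kernel
  relsLt := by decide +kernel
  u_lt := by decide +kernel
  tree := tree_ok
  known := known_ok
  var := var_ok
  row := List.all_eq_true.1 (by decide +kernel : cert.rows.all (cone.rowB cert) = true)
  gauge_ok := List.all_eq_true.1 (by decide +kernel : cone.gauge.all cert.gaugeB = true)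
  field := fun k hk => (allFrom_iff (cone.fieldB cert) 0 29).1 (by decide +kernel) k (Nat.zero_le k) hk
  top := by decide +kernel

end Cfsg.Agent.ONMult
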