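import Cfsg.Agent.ONMult.ConeData

/-! The recorded ranks belong to the recorded edges. -/

set_option autoImplicit false
set_option Elab.async false
set_option maxRecDepth 100000

namespace Cfsg.Agent.ONMult

open Cfsg.Agent.CosetCert Cfsg.Agent.CocycleCert

/-- All leaves satisfy `P`. -/
noncomputable def allLeaves (P : Nat → Bool) (S : Store) : Bool :=
  Store.rec (motive := fun _ => Bool) P (fun _ _ _ a b => a && b) S

theorem allLeaves_get {P : Nat → Bool} : ∀ {S : Store}, allLeaves P S = true → ∀ i, P (S.get i) = true
  | .leaf _, h, _ => h
  | .node m l r, h, i => by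
    have h' : (allLeaves P l && allLeaves P r) = true := h
    rw [Bool.and_eq_true] at h'
    show P (Bool.rec (motive := fun _ => Nat) (r.get i) (l.get i) (Nat.blt i m)) = true
    cases Nat.blt i m
    exacts [allLeaves_get h'.2 i, allLeaves_get h'.1 i]

/-- A leaf names an edge at the rank it records. -/
noncomputable def leafB (v : Nat) : Bool :=
  force (Nat.mod v 1048576) fun id => force (Nat.mod (Nat.div v 1048576) 1048576) fun r =>
    Nat.beq (cone.E r) id

theorem leaves_ok : allLeaves leafB keyStore = true := by decide +kernel

theorem known_ok (i : Nat) (h : cert.rank i < cone.m) : cone.E (cert.rank i) = i := by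
  have hl := allLeaves_get leaves_ok i
  simp only [leafB, force_eq] at hl
  have hm : cone.m ≤ 1048575 := by decide +kernel
  simp only [Cert.rank, cert, just, force_eq] at h ⊢
  cases hb : Nat.beq (Nat.mod (keyStore.get i) 1048576) i with
  | false =>
    simp only [hb] at h
    exact absurd h (by
      have : Nat.mod 1048575 1048576 = 1048575 := rfl
      omega)
  | true =>
    simp only [hb]
    rw [Nat.eq_of_beq_eq_true hl]
    exact Nat.eq_of_beq_eq_true hb

end Cfsg.Agent.ONMult
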