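import Cfsg.Agent.CocycleCert.Cone

/-!
Packed vectors with given fields, and words shifted by central elements.
-/

set_option autoImplicit false

namespace Cfsg.Agent.ONMult

open Cfsg.Agent.CocycleCert

/-- The packed vector with given fields. -/
def packF : ∀ {n : ℕ}, (Fin n → ℕ) → ℕ
  | 0, _ => 0
  | _ + 1, f => f 0 + X * packF fun i => f i.succ

theorem pv_packF {A : Type*} [CommGroup A] : ∀ {n : ℕ} (f : Fin n → ℕ), (∀ i, f i < X) → ∀ B : ℕ → A,
    pv B n (packF f) = ∏ i : Fin n, B i ^ f i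
  | 0, _, _, _ => by simp [pv]
  | n + 1, f, hf, B => by
    have h1 : packF f % X = f 0 := by
      rw [packF, Nat.add_mul_mod_self_left, Nat.mod_eq_of_lt (hf 0)]
    have h2 : packF f / X = packF fun i : Fin n => f i.succ := by
      rw [packF, Nat.add_mul_div_left _ _ (by norm_num : 0 < X), Nat.div_eq_of_lt (hf 0), Nat.zero_add]
    rw [Fin.prod_univ_succ, pv, h1, h2, pv_packF _ (fun i => hf _) fun i => B (i + 1)]
    rfl

theorem prod_zpow_sum {A ι : Type*} [CommGroup A] (s : Finset ι) (a : A) (e : ι → ℤ) :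
    ∏ i ∈ s, a ^ e i = a ^ ∑ i ∈ s, e i := by
  classical
  induction s using Finset.induction_on with
  | empty => simp
  | insert i s hi ih => rw [Finset.prod_insert hi, Finset.sum_insert hi, ih, zpow_add]

/-- The number of occurrences of a letter. -/
def occ {n : ℕ} (x : Fin n) : List ℕ → ℕ
  | [] => 0
  | a :: w => (if a = (x : ℕ) then 1 else 0) + occ x w

theorem tprod_pos {A : Type*} [CommGroup A] {n : ℕ} (a : ℕ → A) : ∀ w : List ℕ, (∀ x ∈ w, x < n) →
    CocycleCert.tprod a (w.map fun x => (x, true)) = ∏ x : Fin n, a x ^ (occ x w : ℤ)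
  | [], _ => by simp [CocycleCert.tprod, evalS, occ]
  | b :: w, h => by
    have hb : b < n := h b (by simp)
    have ih := tprod_pos a w fun x hx => h x (by simp [hx])
    simp only [CocycleCert.tprod] at ih ⊢
    rw [List.map_cons, evalS_cons, cond_true, ih]
    simp only [occ, Nat.cast_add, zpow_add, Finset.prod_mul_distrib]
    congr 1
    rw [Finset.prod_eq_single (⟨b, hb⟩ : Fin n)]
    · simp
    · intro x _ hx
      rw [if_neg fun h => hx (Fin.ext h.symm)]
      simp
    · simp

theorem evalS_shift {Γ : Type*} [Group Γ] (K : Subgroup Γ) [IsMulCommutative K] (hK : K ≤ Subgroup.center Γ)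
    (l : ℕ → Γ) (c : ℕ → K) : ∀ w : List (ℕ × Bool),
    evalS (fun x => l x * (c x : Γ)) w = evalS l w * ((evalS c w : K) : Γ)
  | [] => by simp [evalS]
  | (x, s) :: w => by
    have hc : ∀ (y : K) (g : Γ), (y : Γ) * g = g * y := fun y g => (Subgroup.mem_center_iff.mp (hK y.2) g).symm
    rw [evalS_cons, evalS_cons, evalS_cons, evalS_shift K hK l c w]
    cases s
    · simp only [cond_false, mul_inv_rev, Subgroup.coe_mul, Subgroup.coe_inv]
      have h1 := hc (c x)⁻¹ ((l x)⁻¹ * evalS l w)
      rw [Subgroup.coe_inv] at h1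
      calc (c x : Γ)⁻¹ * (l x)⁻¹ * (evalS l w * ((evalS c w : K) : Γ))
          = (c x : Γ)⁻¹ * ((l x)⁻¹ * evalS l w) * ((evalS c w : K) : Γ) := by group
        _ = _ := by rw [h1]; group
    · simp only [cond_true, Subgroup.coe_mul]
      calc l x * (c x : Γ) * (evalS l w * ((evalS c w : K) : Γ))
          = l x * ((c x : Γ) * evalS l w) * ((evalS c w : K) : Γ) := by group
        _ = _ := by rw [hc]; group

/-- Normalised values of central elements: with `P M = 1` the shift `a = (z^P)⁻¹` makes every `z'^P` trivial. -/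
theorem normalise {A : Type*} [CommGroup A] {n k : ℕ} (z : Fin k → A) (P : Fin n → Fin k → ℤ)
    (M : Fin k → Fin n → ℤ) (hPM : ∀ x y, ∑ i, P x i * M i y = if x = y then 1 else 0) (x : Fin n) :
    ∏ i, (z i * ∏ y, ((∏ j, z j ^ P y j)⁻¹) ^ M i y) ^ P x i = 1 := by
  simp only [mul_zpow, Finset.prod_mul_distrib]
  have h : ∏ i, (∏ y, ((∏ j, z j ^ P y j)⁻¹) ^ M i y) ^ P x i = (∏ j, z j ^ P x j)⁻¹ := by
    simp only [← Finset.prod_zpow, ← zpow_mul]
    rw [Finset.prod_comm]
    simp only [prod_zpow_sum, mul_comm (M _ _) (P x _), hPM]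
    rw [Finset.prod_eq_single x]
    · simp
    · intro y _ hy
      rw [if_neg (Ne.symm hy)]
      simp
    · simp
  rw [h, mul_inv_cancel]

theorem pv_sides {A : Type*} [CommGroup A] {n : ℕ} (B : ℕ → A) (e : Fin n → ℤ)
    (he : ∀ i, (e i).natAbs < X) (h : ∏ i : Fin n, B i ^ e i = 1) :
    pv B n (packF fun i => (e i).toNat) = pv B n (packF fun i => (-e i).toNat) := by
  rw [pv_packF _ (fun i => by have := he i; omega), pv_packF _ (fun i => by have := he i; omega),
    ← div_eq_one, ← Finset.prod_div_distrib, ← h]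
  refine Finset.prod_congr rfl fun i _ => ?_
  rw [← zpow_natCast, ← zpow_natCast, div_eq_mul_inv, ← zpow_neg, ← zpow_add]
  congr 1
  omega

end Cfsg.Agent.ONMult
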