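import Mathlib

/-! Generated: exponents normalising the lifts of the generators. -/

set_option autoImplicit false

namespace Cfsg.Agent.ONMult

/-- For each letter the exponents of the relator values. -/
def normExp : List (List Int) := [
  [0, 0, -1, 0, 1, 0, -1, 1, -1, -1, -1, -1, 0, -1, 0, 0, 1, 1, 1, 0, 0, 0, 0, -1, 0, 1, 0, -1, 2],
  [0, -1, -2, 1, 2, -1, -3, 4, -3, -4, -3, -2, -1, -1, -1, 1, 2, 1, 0, 2, -1, 4, 0, -2, -1, 4, -1, -2, -2],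
  [0, 1, 3, 0, -1, -1, 4, -6, 4, 3, 4, 2, 1, 2, 2, 0, -2, 0, -1, -1, -1, -4, -1, 2, 1, -4, 2, 1, 2],
  [0, 0, 2, 0, -1, -1, 3, -5, 4, 3, 3, 2, 1, 1, 1, 0, -2, 0, 0, -2, 0, 0, 0, 0, 1, -4, 3, 2, -2],
  [0, 3, 5, -2, -3, 1, 10, -8, 8, 8, 10, 5, 4, 4, 4, -2, -9, -2, -3, -5, 0, -8, -3, 4, 4, -12, 1, 10, 0],
  [0, 1, 3, 0, -2, 0, 4, -2, 3, 3, 3, 2, 1, 2, 2, -1, -4, -1, -1, -1, 0, -4, -1, 2, 1, -4, -1, 4, 2],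
  [0, 0, 2, 0, -1, 1, 4, -2, 3, 3, 3, 1, 1, 1, 1, -1, -4, -1, 0, -1, 0, -4, 0, 2, 1, -4, 0, 3, 2],
  [0, 0, 1, 0, -1, 0, 1, -1, 1, 1, 1, 1, 0, 1, 0, 0, -1, -1, -1, 0, 0, 0, 0, 1, 0, -1, 0, 1, -1]]

end Cfsg.Agent.ONMult
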