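import Cfsg.Agent.ONSevenIso.Main
import Cfsg.Agent.SLMult.Main
import Cfsg.Agent.StemCert.Split
import Cfsg.Agent.Classical.LinearBasic

/-!
The subgroup `L3(7):2` of the O'Nan group has trivial multiplier: in any central extension of it the kernel meets
the derived group trivially. The universal cover `SL(3, 7)` of the index-two subgroup has its centre inverted by
the outer involutions.
-/

set_option autoImplicit false

namespace Cfsg.Agent.ONMult

open Cfsg.Agent.ONSevenIso
open Cfsg.Agent.CosetCert
open scoped commutatorElement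

theorem sl_perfect : commutator S = ⊤ :=
  Cfsg.Agent.Classical.commutator_sl_eq_top (by rw [Fintype.card_fin]; left; norm_num)

theorem sl_trivial : Cfsg.HasCyclicSchurMultiplier S 1 :=
  SLMult.sl_multiplier_trivial (Or.inr ⟨by rw [Fintype.card_fin], fun h => by simp at h,
    fun _ => by rw [Nat.card_eq_fintype_card, ZMod.card]; norm_num⟩)

/-- The cover of the index-two subgroup, compatible with the action on `SL(3, 7)`. -/
theorem exists_cover : ∃ π0 : S →* parity.ker, Function.Surjective π0 ∧
    (∀ X, toAut (π0 X : Six) = MulAut.conj X) ∧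
    Function.Injective (toAut.comp parity.ker.subtype) := by
  have : Finite Six := six_card.1
  let R := (MulAut.conj : S →* MulAut S).range
  let α : parity.ker →* R := (toAut.comp parity.ker.subtype).codRestrict R conj_mem_range
  have hs : Function.Surjective α := by
    rintro ⟨σ, hσ⟩
    obtain ⟨x, hx, rfl⟩ := conj_le_image hσ
    exact ⟨⟨x, hx⟩, rfl⟩
  let e : Matrix.ProjectiveSpecialLinearGroup (Fin 3) (ZMod 7) ≃* R :=
    (QuotientGroup.quotientMulEquivOfEq conj_ker.symm).trans
      (QuotientGroup.quotientKerEquivRange MulAut.conj)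
  have hk : Nat.card parity.ker = 1876896 := by
    have h := parity.ker.card_mul_index
    rw [parity_index, six_equiv_H.2] at h
    omega
  have hb : Function.Bijective α := hs.bijective_of_nat_card_le (by
    rw [← Nat.card_congr e.toEquiv, card_psl, hk])
  let eα := MulEquiv.ofBijective α hb
  refine ⟨eα.symm.toMonoidHom.comp (MulAut.conj : S →* MulAut S).rangeRestrict,
    eα.symm.surjective.comp (MonoidHom.rangeRestrict_surjective _), fun X => ?_,
    fun a b h => hb.1 (Subtype.ext h)⟩
  exact congrArg Subtype.val (eα.apply_symm_apply ((MulAut.conj : S →* MulAut S).rangeRestrict X))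

theorem dual_center {ω : S} (h : ω ∈ Subgroup.center S) : dual ω = ω⁻¹ := by
  obtain ⟨r, -, hr⟩ := Matrix.SpecialLinearGroup.mem_center_iff.mp (inv_mem h)
  apply Subtype.ext
  show (ω⁻¹).1.transpose = (ω⁻¹).1
  rw [← hr]
  exact Matrix.diagonal_transpose _

theorem center_cube {ω : S} (h : ω ∈ Subgroup.center S) : ω ^ 3 = 1 := by
  obtain ⟨r, hr1, hr⟩ := Matrix.SpecialLinearGroup.mem_center_iff.mp h
  apply Subtype.ext
  rw [Matrix.SpecialLinearGroup.coe_pow, Matrix.SpecialLinearGroup.coe_one, ← hr, ← map_pow]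
  rw [Fintype.card_fin] at hr1
  rw [hr1, map_one]

/-- In a central extension of `L3(7):2` the kernel meets the derived group trivially. -/
theorem six_meet {P : Type} [Group P] [Finite P] (f : P →* Six) (hf : Function.Surjective f)
    (hker : f.ker ≤ Subgroup.center P) (z : P) (hz : z ∈ f.ker) (hzc : z ∈ commutator P) : z = 1 := by
  classical
  obtain ⟨π0, hπ0, hcompat, hinj⟩ := exists_cover
  let p : P →* Multiplicative (ZMod 2) := parity.comp f
  let D := p.ker
  have hD : D.index = 2 := by
    rw [show D = parity.ker.comap f from (MonoidHom.comap_ker parity f).symm,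
      Subgroup.index_comap_of_surjective _ hf, parity_index]
  let τ : D →* parity.ker := (f.comp D.subtype).codRestrict parity.ker fun d => d.2
  have hτ : Function.Surjective τ := fun x => by
    obtain ⟨y, hy⟩ := hf x
    exact ⟨⟨y, by show parity (f y) = 1; rw [hy]; exact x.2⟩, Subtype.ext hy⟩
  have hperf : commutator parity.ker = ⊤ := by
    rw [commutator_def, ← Subgroup.map_top_of_surjective π0 hπ0, ← Subgroup.map_commutator,
      ← commutator_def, sl_perfect]
  have hτc : ∀ d : D, τ d = 1 → (d : P) ∈ Subgroup.center P := fun d hd =>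
    hker (congrArg Subtype.val hd)
  let T := commutator D
  have hmap : T.map τ = ⊤ := by
    rw [show T = commutator D from rfl, commutator_def, Subgroup.map_commutator,
      Subgroup.map_top_of_surjective _ hτ, ← commutator_def, hperf]
  have hdec : ∀ d : D, ∃ t ∈ T, τ (t⁻¹ * d) = 1 := fun d => by
    obtain ⟨t, ht, htd⟩ := Subgroup.mem_map.mp (hmap ▸ Subgroup.mem_top (τ d) : τ d ∈ T.map τ)
    exact ⟨t, ht, by rw [map_mul, map_inv, htd, inv_mul_cancel]⟩
  have hcen : ∀ d : D, τ d = 1 → d ∈ Subgroup.center D := fun d hd =>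
    Subgroup.mem_center_iff.mpr fun y => Subtype.ext (Subgroup.mem_center_iff.mp (hτc d hd) y)
  have hT : T ≤ ⁅T, T⁆ := by
    rw [show T = ⁅(⊤ : Subgroup D), ⊤⁆ from commutator_def D, Subgroup.commutator_le]
    intro a _ b _
    obtain ⟨ta, hta, hca⟩ := hdec a
    obtain ⟨tb, htb, hcb⟩ := hdec b
    rw [show a = ta * (ta⁻¹ * a) by group, show b = tb * (tb⁻¹ * b) by group,
      StemCert.commutator_mul_central _ _ (hcen _ hca) (hcen _ hcb)]
    exact Subgroup.commutator_mem_commutator hta htb
  let τ' : T →* parity.ker := τ.comp T.subtype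
  have hτ' : Cfsg.IsStemExtension τ' := by
    refine ⟨fun x => ?_, fun x hx => ?_, fun x _ => ?_⟩
    · obtain ⟨t, ht, htx⟩ := Subgroup.mem_map.mp (hmap ▸ Subgroup.mem_top x : x ∈ T.map τ)
      exact ⟨⟨t, ht⟩, htx⟩
    · exact Subgroup.mem_center_iff.mpr fun y =>
        Subtype.ext (Subgroup.mem_center_iff.mp (hcen x hx) y)
    · have h : (x : D) ∈ (commutator T).map T.subtype := by
        rw [commutator_def, Subgroup.map_commutator, ← MonoidHom.range_eq_map, Subgroup.range_subtype]
        exact hT x.2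
      obtain ⟨y, hy, hyx⟩ := Subgroup.mem_map.mp h
      rwa [← Subtype.ext hyx]
  obtain ⟨f1, hf1, hle⟩ := SLMult.lift_through_cover sl_perfect sl_trivial π0 hπ0 τ' hτ'
  -- an outer element
  obtain ⟨a, ha⟩ := hf (PresentedGroup.of 0)
  let F1 : S →* P := D.subtype.comp (T.subtype.comp f1)
  have hF1 : ∀ X, f (F1 X) = (π0 X : Six) := fun X =>
    congrArg Subtype.val (DFunLike.congr_fun hf1 X)
  let F2 : S →* P := (MulAut.conj a : P ≃* P).toMonoidHom.comp F1
  let F3 : S →* P := F1.comp (gAut 0 : S ≃* S).toMonoidHom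
  have hgen : toAut (PresentedGroup.of 0 : Six) = gAut 0 := PresentedGroup.toGroup.of lift_gAut_one
  have hsame : ∀ X, f (F2 X) = f (F3 X) := fun X => by
    have hpar : (f (F2 X) : Six) ∈ parity.ker := by
      show parity (f (a * F1 X * a⁻¹)) = 1
      rw [map_mul, map_mul, map_inv, map_mul, map_mul, map_inv, hF1,
        show parity (π0 X : Six) = 1 from (π0 X).2, mul_one, mul_inv_cancel]
    have h : (⟨f (F2 X), hpar⟩ : parity.ker) = π0 (gAut 0 X) := by
      apply hinj
      show toAut (f (F2 X)) = toAut (π0 (gAut 0 X) : Six)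
      rw [hcompat]
      show toAut (f (a * F1 X * a⁻¹)) = _
      rw [map_mul, map_mul, map_inv, map_mul, map_mul, map_inv, ha, hF1, hcompat, hgen]
      refine MulEquiv.ext fun Y => ?_
      simp only [MulAut.mul_apply, MulAut.conj_apply, map_mul, map_inv, MulAut.apply_inv_self]
    exact (congrArg Subtype.val h).trans (hF1 (gAut 0 X)).symm
  have hq : ∀ X, (F3 X)⁻¹ * F2 X ∈ f.ker := fun X => by
    rw [MonoidHom.mem_ker, map_mul, map_inv, hsame, inv_mul_cancel]
  letI : CommGroup f.ker :=
    { (inferInstance : Group f.ker) with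
      mul_comm := fun u v => Subtype.ext (Subgroup.mem_center_iff.mp (hker v.2) u) }
  let c : S →* f.ker :=
    { toFun := fun X => ⟨_, hq X⟩
      map_one' := Subtype.ext (by simp)
      map_mul' := fun X Y => Subtype.ext (by
        have hc := Subgroup.mem_center_iff.mp (hker (hq X))
        show (F3 (X * Y))⁻¹ * F2 (X * Y) = (F3 X)⁻¹ * F2 X * ((F3 Y)⁻¹ * F2 Y)
        rw [map_mul, map_mul, mul_inv_rev]
        calc (F3 Y)⁻¹ * (F3 X)⁻¹ * (F2 X * F2 Y)
            = (F3 Y)⁻¹ * ((F3 X)⁻¹ * F2 X) * F2 Y := by group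
          _ = (F3 X)⁻¹ * F2 X * (F3 Y)⁻¹ * F2 Y := by rw [hc]
          _ = _ := by group) }
  have hc1 : ∀ X, F3 X = F2 X := fun X => by
    have h : c X = 1 := Abelianization.commutator_subset_ker c (sl_perfect ▸ Subgroup.mem_top X)
    have h' : (F3 X)⁻¹ * F2 X = 1 := congrArg Subtype.val h
    exact inv_mul_eq_one.mp h'
  -- the centre of the cover dies
  have hcenter : ∀ ω ∈ Subgroup.center S, F1 ω = 1 := by
    intro ω hω
    have h0 : π0 ω = 1 := by
      apply hinj
      show toAut (π0 ω : Six) = toAut ((1 : parity.ker) : Six)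
      rw [hcompat, OneMemClass.coe_one, map_one]
      rw [← conj_ker] at hω
      exact hω
    have hcF : F1 ω ∈ Subgroup.center P := hker (by rw [MonoidHom.mem_ker, hF1, h0]; rfl)
    have h3 : F3 ω = (F1 ω)⁻¹ := by
      show F1 (MulAut.conj (oEl 0) (dual ω)) = _
      rw [dual_center hω, MulAut.conj_apply, (Subgroup.mem_center_iff.mp (inv_mem hω) (oEl 0)),
        mul_inv_cancel_right, map_inv]
    have h2 : F2 ω = F1 ω := by
      show a * F1 ω * a⁻¹ = F1 ω
      rw [Subgroup.mem_center_iff.mp hcF a, mul_inv_cancel_right]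
    have hsq : F1 ω * F1 ω = 1 := by
      have := hc1 ω
      rw [h3, h2] at this
      nth_rewrite 1 [← this]
      exact inv_mul_cancel _
    have hcube : F1 ω * F1 ω * F1 ω = 1 := by
      rw [← map_mul, ← map_mul, show ω * ω * ω = ω ^ 3 by simp [pow_succ], center_cube hω, map_one]
    rwa [hsq, one_mul] at hcube
  have hinjT : ∀ t : T, τ' t = 1 → ((t : D) : P) = 1 := fun t ht => by
    obtain ⟨ω, hω, rfl⟩ := hle ht
    refine hcenter ω ?_
    have h : toAut (π0 ω : Six) = 1 := by rw [show π0 ω = 1 from hω]; exact map_one _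
    rw [hcompat] at h
    rw [← conj_ker]
    exact h
  -- the derived group lies in `T`
  let T' : Subgroup P := T.map D.subtype
  have hTn : T'.Normal := inferInstance
  have hsplit : ∀ d ∈ D, ∃ e ∈ T', (e⁻¹ * d) ∈ Subgroup.center P := fun d hd => by
    obtain ⟨t, ht, htd⟩ := hdec ⟨d, hd⟩
    exact ⟨t, Subgroup.mem_map_of_mem _ ht, hτc _ htd⟩
  have hcomm : commutator P ≤ T' := by
    rw [commutator_def, Subgroup.commutator_le]
    have hN1 : ∀ d ∈ D, ∀ q, ⁅d, q⁆ ∈ T' := fun d hd q => by
      obtain ⟨e, he, hc⟩ := hsplit d hd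
      have : ⁅d, q⁆ = ⁅e, q⁆ := by
        conv_lhs => rw [show d = e * (e⁻¹ * d) by group, show q = q * 1 by group]
        exact StemCert.commutator_mul_central e q hc (one_mem _)
      rw [this, commutatorElement_def, show e * q * e⁻¹ * q⁻¹ = e * (q * e⁻¹ * q⁻¹) by group]
      exact mul_mem he (hTn.conj_mem _ (inv_mem he) q)
    intro u _ q _
    by_cases hu : u ∈ D
    · exact hN1 u hu q
    by_cases hq' : q ∈ D
    · rw [← commutatorElement_inv]
      exact inv_mem (hN1 q hq' u)
    have hn : u⁻¹ * q ∈ D := by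
      rw [Subgroup.mul_mem_iff_of_index_two hD, inv_mem_iff]
      simp [hu, hq']
    have : ⁅u, q⁆ = u * ⁅u⁻¹ * q, u⁆⁻¹ * u⁻¹ := by
      simp only [commutatorElement_def, mul_inv_rev]
      group
    rw [this]
    exact hTn.conj_mem _ (inv_mem (hN1 _ hn u)) u
  obtain ⟨t, ht, rfl⟩ := Subgroup.mem_map.mp (hcomm hzc)
  exact hinjT ⟨t, ht⟩ (Subtype.ext hz)

end Cfsg.Agent.ONMult
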