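import Cfsg.Agent.ONMult.UpperCore
import Cfsg.Agent.ONMult.Stab
import Cfsg.Agent.ONMult.Base
import Cfsg.Agent.CosetCert.ONOrder.Main

/-! The multiplier of the presented O'Nan group is cyclic of order at most three. -/

set_option autoImplicit false
set_option maxRecDepth 100000

namespace Cfsg.Agent.ONMult

open Cfsg.Agent.CosetCert
open Cfsg.Agent.CosetCert.ONIndex122760 (data enc dec subGens)

theorem exists_action : ∃ φ : PresentedGroup rels →* Equiv.Perm (Fin data.n), Action φ := by
  obtain ⟨φ, π, hπ, hfwd⟩ := Data.enumeration ONIndex122760.valid ONIndex122760.spells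
  refine ⟨φ, hfwd, ?_, fun h0 y hy =>
    (base_iff ONIndex122760.valid ONIndex122760.spells φ π hπ hfwd y).1 hy⟩
  exact (Data.order_eq (N := 460815505920) ONIndex122760.valid ONIndex122760.spells φ hfwd
    ONOrder.card_bound.1 ONOrder.card_bound.2 ONOrder.levels ONOrder.levels_ok (by decide +kernel)).1

/-- In the preimage of the point stabiliser the kernel meets the derived group trivially. -/
theorem stab_meet {Γ : Type} [Group Γ] [Finite Γ] (σ : Γ →* PresentedGroup rels)
    (hσ : Cfsg.IsStemExtension σ) (z : Γ) (hz : z ∈ (Data.sub rels subGens).comap σ) (hzk : z ∈ σ.ker)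
    (hzc : (⟨z, hz⟩ : (Data.sub rels subGens).comap σ) ∈ commutator ((Data.sub rels subGens).comap σ)) :
    z = 1 := by
  obtain ⟨⟨e⟩, -⟩ := ONSevenIso.six_equiv_H
  let r : (Data.sub rels subGens).comap σ →* Data.sub rels subGens :=
    (σ.comp (Subgroup.subtype _)).codRestrict _ fun p => p.2
  let f : (Data.sub rels subGens).comap σ →* ONSevenIso.Six := e.symm.toMonoidHom.comp r
  have hf : Function.Surjective f := e.symm.surjective.comp fun y => by
    obtain ⟨x, hx⟩ := hσ.1 y
    exact ⟨⟨x, by rw [Subgroup.mem_comap, hx]; exact y.2⟩, Subtype.ext hx⟩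
  have hker : f.ker ≤ Subgroup.center ((Data.sub rels subGens).comap σ) := fun p hp => by
    have h1 : r p = 1 := e.symm.injective (by rw [map_one]; exact hp)
    exact Subgroup.mem_center_iff.mpr fun q =>
      Subtype.ext (Subgroup.mem_center_iff.mp (hσ.2.1 (congrArg Subtype.val h1)) q)
  have h := six_meet f hf hker ⟨z, hz⟩ (by
    have h1 : r ⟨z, hz⟩ = 1 := Subtype.ext hzk
    show e.symm (r ⟨z, hz⟩) = 1
    rw [h1, map_one]) hzc
  exact congrArg Subtype.val h

/-- Every stem extension has cyclic kernel of order dividing three. -/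
theorem upper (Γ : Type) [Group Γ] [Finite Γ] (σ : Γ →* Cfsg.Spor.ON) (hσ : Cfsg.IsStemExtension σ) :
    ∃ z ∈ σ.ker, σ.ker ≤ Subgroup.zpowers z ∧ z ^ 3 = 1 := by
  obtain ⟨φ, hφ⟩ := exists_action
  exact ker_cyclic ONIndex122760.valid ONIndex122760.spells hφ σ hσ fun z hz => stab_meet σ hσ z hz

end Cfsg.Agent.ONMult
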