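import Cfsg.Agent.ONMult.ConeChecked
import Cfsg.Agent.ONMult.Gauge
import Cfsg.Agent.ONMult.GaugeData
import Cfsg.Agent.StemCert.Split
import Cfsg.Prelude.Def_KGroupFacts

/-!
The multiplier bound for the presented O'Nan group, granted its permutation representation and the fact that in the
preimage of the point stabiliser the kernel meets the derived group trivially.
-/

set_option autoImplicit false
set_option maxRecDepth 100000
set_option maxHeartbeats 2000000
set_option linter.constructorNameAsVariable false

namespace Cfsg.Agent.ONMult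

open Cfsg.Agent.CocycleCert
open Cfsg.Agent.CosetCert (Data)
open Cfsg.Agent.CosetCert.ONIndex122760 (data enc dec subGens)
open scoped commutatorElement

/-- The relators of the O'Nan group. -/
abbrev rels : Set (FreeGroup Cfsg.Spor.ON.Gen) :=
  Cfsg.Spor.coxRelators Cfsg.Spor.ON.edges ∪ {r | r ∈ Cfsg.Spor.ON.extra}

/-- The relators of the certificate as words in the eight letters. -/
noncomputable def relWordsN : List (List ℕ) := data.W.take 28 ++ [[0, 7]]

theorem rels_eq : cert.rels = relWordsN.map (List.map fun x => (x, true)) := by decide +kernel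

theorem relWordsN_ok : ∀ w ∈ relWordsN, w ∈ data.W.take data.nR ∧ ∀ x ∈ w, x < 8 := by decide +kernel

theorem relWordsN_len : relWordsN.length = 29 ∧ cert.nr = 29 := by decide +kernel

theorem pair_mem : ∀ x, x < 7 → [x, data.iv x] ∈ relWordsN := by decide +kernel

/-- The exponent of a relator value in the shift of a letter. -/
def normP (x : Fin 8) (i : Fin 29) : ℤ := (normExp.getD x []).getD i 0

/-- The occurrences of a letter in a relator. -/
noncomputable def relM (i : Fin 29) (x : Fin 8) : ℤ := (occ x (relWordsN.getD i []) : ℤ)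

theorem normP_relM : ∀ x y : Fin 8, ∑ i, normP x i * relM i y = if x = y then 1 else 0 := by
  decide +kernel

theorem gauge_eq : cone.gauge = List.ofFn fun x : Fin 8 =>
    (packF fun i => (normP x i).toNat, packF fun i => (-normP x i).toNat) := by decide +kernel

theorem normP_small : ∀ x i, (normP x i).natAbs < X := by decide +kernel

theorem mult_even : cone.N = 6 ∧ ∀ k, k < 29 → 2 ∣ cone.mult.getD k 0 := by decide +kernel

/-- The facts on the action on the cosets. -/
structure Action (φ : PresentedGroup rels →* Equiv.Perm (Fin data.n)) : Prop where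
  fwd : ∀ (l : List (Cfsg.Spor.ON.Gen × Bool)) (c : Fin data.n),
    (((φ (PresentedGroup.mk rels (FreeGroup.mk l)))⁻¹ c : Fin data.n) : Nat) =
      data.fwd (l.map (Data.code data.iv enc)) c
  inj : Function.Injective φ
  stab : ∀ (h0 : 0 < data.n) y, φ y ⟨0, h0⟩ = ⟨0, h0⟩ → y ∈ Data.sub rels subGens

variable (hV : data.Valid)
  (hS : Data.Spells data rels subGens enc dec
    (Cfsg.Agent.CosetCert.coxWords Cfsg.Agent.CosetCert.ONIndex122760.genList Cfsg.Spor.ON.edges
      Cfsg.Spor.ON.extra))
  {φ : PresentedGroup rels →* Equiv.Perm (Fin data.n)} (hφ : Action φ)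

/-- The element of a letter. -/
def letterEl (x : ℕ) : PresentedGroup rels := PresentedGroup.mk rels (FreeGroup.mk [dec x])

theorem evalS_letterEl : ∀ w : List ℕ, evalS letterEl (w.map fun x => (x, true)) =
    PresentedGroup.mk rels (FreeGroup.mk (w.map dec))
  | [] => (map_one _).symm
  | x :: w => by
    rw [List.map_cons, evalS_cons, evalS_letterEl w, cond_true, List.map_cons,
      show FreeGroup.mk (dec x :: w.map dec) = FreeGroup.mk [dec x] * FreeGroup.mk (w.map dec) by
        rw [FreeGroup.mul_mk]; rfl, map_mul]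
    rfl

include hV hS hφ

theorem rel_one : ∀ w ∈ relWordsN, evalS letterEl (w.map fun x => (x, true)) = 1 := by
  intro w hw
  obtain ⟨hW, hlt⟩ := relWordsN_ok w hw
  rw [evalS_letterEl]
  apply hφ.inj
  rw [map_one]
  apply inv_injective
  ext c
  rw [inv_one, Equiv.Perm.one_apply, hφ.fwd, List.map_map]
  have hc : w.map (Data.code data.iv enc ∘ dec) = w := by
    conv_rhs => rw [← List.map_id w]
    exact List.map_congr_left fun x hx => hS.code_dec x (hlt x hx)
  rw [hc]
  exact hV.fwd_relator hW c c.2

/-- The kernel of a stem extension is cyclic of order dividing three. -/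
theorem ker_cyclic {Γ : Type} [Group Γ] [Finite Γ] (σ : Γ →* PresentedGroup rels)
    (hσ : Cfsg.IsStemExtension σ)
    (hmeet : ∀ z (hz : z ∈ (Data.sub rels subGens).comap σ), z ∈ σ.ker →
      (⟨z, hz⟩ : (Data.sub rels subGens).comap σ) ∈ commutator ((Data.sub rels subGens).comap σ) → z = 1) :
    ∃ z ∈ σ.ker, σ.ker ≤ Subgroup.zpowers z ∧ z ^ 3 = 1 := by
  classical
  obtain ⟨hsurj, hker, hcm⟩ := hσ
  have : IsMulCommutative σ.ker :=
    ⟨⟨fun a b => Subtype.ext (Subgroup.mem_center_iff.mp (hker b.2) a)⟩⟩
  let : CommGroup σ.ker := IsMulCommutative.instCommGroup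
  let S := Data.sub rels subGens
  let l0 : ℕ → Γ := fun x => Function.surjInv hsurj (letterEl x)
  have hl0 : ∀ x, σ (l0 x) = letterEl x := fun x => Function.surjInv_eq hsurj _
  -- the values of the relators
  let word : Fin 29 → List ℕ := fun i => relWordsN.getD i []
  have hword : ∀ i, word i ∈ relWordsN := fun i => by
    have hi : (i : ℕ) < relWordsN.length := by rw [relWordsN_len.1]; exact i.2
    show relWordsN.getD i [] ∈ relWordsN
    rw [List.getD_eq_getElem _ _ hi]
    exact List.getElem_mem hi
  have hvalker : ∀ (l : ℕ → Γ), (∀ x, σ (l x) = letterEl x) → ∀ i,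
      evalS l ((word i).map fun x => (x, true)) ∈ σ.ker := fun l hl i => by
    rw [MonoidHom.mem_ker, map_evalS, show (fun x => σ (l x)) = letterEl from funext hl]
    exact rel_one hV hS hφ _ (hword i)
  let z : Fin 29 → σ.ker := fun i => ⟨_, hvalker l0 hl0 i⟩
  let shift : ℕ → σ.ker := fun x => if h : x < 8 then (∏ j, z j ^ normP ⟨x, h⟩ j)⁻¹ else 1
  let l : ℕ → Γ := fun x => l0 x * (shift x : Γ)
  have hl : ∀ x, σ (l x) = letterEl x := fun x => by
    rw [map_mul, MonoidHom.mem_ker.mp (shift x).2, hl0, mul_one]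
  let z' : Fin 29 → σ.ker := fun i => ⟨_, hvalker l hl i⟩
  have hz' : ∀ i, z' i = z i * ∏ y : Fin 8, ((∏ j, z j ^ normP y j)⁻¹) ^ relM i y := fun i => by
    have h1 : z' i = z i * evalS shift ((word i).map fun x => (x, true)) :=
      Subtype.ext (evalS_shift σ.ker hker l0 shift _)
    rw [h1]
    congr 1
    refine (tprod_pos (n := 8) shift (word i) fun x hx => (relWordsN_ok _ (hword i)).2 x hx).trans ?_
    refine Finset.prod_congr rfl fun y _ => ?_
    simp only [shift, dif_pos y.2]
    rfl
  have hnorm : ∀ x, ∏ i, z' i ^ normP x i = 1 := fun x => by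
    simp only [hz']
    exact normalise z normP relM normP_relM x
  -- the map to the abelianised preimage of the stabiliser
  have hkS : σ.ker ≤ S.comap σ := fun y hy => by
    rw [Subgroup.mem_comap, MonoidHom.mem_ker.mp hy]; exact one_mem _
  let ρ : σ.ker →* Abelianization (S.comap σ) := Abelianization.of.comp (Subgroup.inclusion hkS)
  have hρ : Function.Injective ρ := (injective_iff_map_eq_one ρ).mpr fun y hy => Subtype.ext
    (hmeet y (hkS y.2) y.2 (by
      have h1 : Abelianization.of (⟨(y : Γ), hkS y.2⟩ : S.comap σ) = 1 := hy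
      rwa [← MonoidHom.mem_ker, Abelianization.ker_of] at h1))
  let zA : ℕ → Abelianization (S.comap σ) := fun k => if h : k < 29 then ρ (z' ⟨k, h⟩) else 1
  have hn : cert.n = data.n := by decide +kernel
  obtain ⟨u, hu, hzu⟩ := cone_image (C := cert) (Z := cone) checked σ hker
    φ letterEl
    (fun x hx c => by
      show (((φ (letterEl x))⁻¹ c : Fin data.n) : Nat) = data.T c x
      refine (hφ.fwd [dec x] c).trans ?_
      rw [List.map_cons, List.map_nil, hS.code_dec x hx, Data.fwd_cons, Data.fwd_nil])
    (fun x hx c => by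
      show ((φ (letterEl x) c : Fin data.n) : Nat) = data.T c (data.iv x)
      have hiv : (letterEl (data.iv x))⁻¹ = letterEl x :=
        inv_eq_of_mul_eq_one_right (hS.inv_letter x hx)
      rw [← hiv, map_inv]
      refine (hφ.fwd [dec (data.iv x)] c).trans ?_
      rw [List.map_cons, List.map_nil, hS.code_dec _ (hV.iv_iv x hx).2, Data.fwd_cons, Data.fwd_nil])
    S (fun y hy => hφ.stab hV.n_pos y hy) l hl
    Abelianization.of zA
    (fun k hk => by
      rw [relWordsN_len.2] at hk
      have e : cert.rels.getD k [] = (word ⟨k, hk⟩).map fun x => (x, true) := by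
        rw [rels_eq, List.getD_eq_getElem _ _ (by rw [List.length_map, relWordsN_len.1]; exact hk),
          List.getElem_map]
        congr 1
        exact (List.getD_eq_getElem _ _ _).symm
      refine ⟨e ▸ hvalker l hl ⟨k, hk⟩, fun hm => ?_⟩
      simp only [zA, dif_pos hk]
      show Abelianization.of _ = Abelianization.of _
      congr 1
      exact Subtype.ext (congrArg (evalS l) e).symm)
    (fun e he => by
      rw [relWordsN_len.2]
      rw [gauge_eq, List.mem_ofFn] at he
      obtain ⟨x, rfl⟩ := he
      refine pv_sides zA (normP x) (normP_small x) ?_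
      rw [← map_one ρ, ← hnorm x, map_prod]
      exact Finset.prod_congr rfl fun i _ => by rw [map_zpow]; simp only [zA, dif_pos i.2])
  -- the kernel is generated by the values of the relators
  let N : Subgroup Γ := (Subgroup.closure (Set.range z')).map σ.ker.subtype
  have hNk : N ≤ σ.ker := by
    rintro _ ⟨y, -, rfl⟩
    exact y.2
  have : N.Normal := ⟨fun y hy g => by
    rw [Subgroup.mem_center_iff.mp (hker (hNk hy)) g, mul_inv_cancel_right]
    exact hy⟩
  let q := QuotientGroup.mk' N
  have hzN : ∀ i, q (evalS l ((word i).map fun x => (x, true))) = 1 := fun i =>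
    (QuotientGroup.eq_one_iff _).mpr
      (show _ ∈ N from Subgroup.mem_map.mpr ⟨z' i, Subgroup.subset_closure (Set.mem_range_self i), rfl⟩)
  have hiv : ∀ x, x < 7 → q (l (data.iv x)) = (q (l x))⁻¹ := fun x hx => by
    obtain ⟨k, hk, e⟩ := List.getElem_of_mem (pair_mem x hx)
    rw [relWordsN_len.1] at hk
    have h := hzN ⟨k, hk⟩
    rw [show word ⟨k, hk⟩ = [x, data.iv x] from (List.getD_eq_getElem _ _ _).trans e] at h
    simp only [List.map_cons, List.map_nil, evalS_cons, evalS_nil, cond_true, mul_one, map_mul] at h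
    exact eq_inv_of_mul_eq_one_right h
  let F : FreeGroup Cfsg.Spor.ON.Gen →* Γ ⧸ N := FreeGroup.lift fun b => q (l (enc b))
  have henc : ∀ b, enc b < 7 := by intro b; cases b <;> decide
  have hF : ∀ w : List (Cfsg.Spor.ON.Gen × Bool),
      F (FreeGroup.mk w) = q (evalS l ((w.map (Data.code data.iv enc)).map fun x => (x, true))) := by
    intro w
    induction w with
    | nil => exact (map_one F).trans (map_one q).symm
    | cons a w ih =>
      rw [show FreeGroup.mk (a :: w) = FreeGroup.mk [a] * FreeGroup.mk w by rw [FreeGroup.mul_mk]; rfl,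
        map_mul, ih, List.map_cons, List.map_cons, evalS_cons, cond_true, map_mul]
      congr 1
      obtain ⟨b, _ | _⟩ := a
      · show _ = q (l (data.iv (enc b)))
        rw [hiv _ (henc b)]
        simp [F]
      · show _ = q (l (enc b))
        simp [F]
  have hFr : ∀ r ∈ rels, F r = 1 := fun r hr => by
    have hle : Subgroup.normalClosure {r | r ∈ (Cfsg.Agent.CosetCert.coxWords
        Cfsg.Agent.CosetCert.ONIndex122760.genList Cfsg.Spor.ON.edges
        Cfsg.Spor.ON.extra).map FreeGroup.mk} ≤ F.ker := by
      refine Subgroup.normalClosure_le_normal ?_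
      intro r hr
      obtain ⟨w, hw, rfl⟩ := List.mem_map.mp hr
      rw [SetLike.mem_coe, MonoidHom.mem_ker, hF]
      have hmem : w.map (Data.code data.iv enc) ∈ relWordsN := by
        refine List.mem_append_left _ ?_
        have h28 : data.W.take 28 = (Cfsg.Agent.CosetCert.coxWords
            Cfsg.Agent.CosetCert.ONIndex122760.genList Cfsg.Spor.ON.edges Cfsg.Spor.ON.extra).map
              (List.map (Data.code data.iv enc)) := by decide +kernel
        rw [h28]
        exact List.mem_map_of_mem hw
      obtain ⟨k, hk, e⟩ := List.getElem_of_mem hmem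
      rw [relWordsN_len.1] at hk
      rw [← e, ← show word ⟨k, hk⟩ = _ from List.getD_eq_getElem _ _ _]
      exact hzN ⟨k, hk⟩
    exact MonoidHom.mem_ker.mp (hle (hS.rels_mem hr))
  let Ψ : PresentedGroup rels →* Γ ⧸ N := PresentedGroup.toGroup hFr
  let σq : Γ ⧸ N →* PresentedGroup rels := QuotientGroup.lift N σ hNk
  have hid : ∀ y, σq (Ψ y) = y := fun y => by
    have h : σq.comp Ψ = MonoidHom.id _ := PresentedGroup.ext fun b => by
      show σq (Ψ (PresentedGroup.of b)) = _
      simp only [Ψ, PresentedGroup.toGroup.of, σq]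
      show σ (l (enc b)) = _
      rw [hl, letterEl, (hS.enc_lt b).2]
      rfl
    exact DFunLike.congr_fun h y
  have hc : (commutator Γ).map q ≤ Ψ.range := by
    rw [commutator_def, Subgroup.map_commutator, Subgroup.commutator_le]
    rintro _ ⟨a, -, rfl⟩ _ ⟨b, -, rfl⟩
    have hd : ∀ a : Γ, (Ψ (σ a))⁻¹ * q a ∈ Subgroup.center (Γ ⧸ N) := fun a => by
      obtain ⟨e, he⟩ := QuotientGroup.mk'_surjective N (Ψ (σ a))
      have hea : e⁻¹ * a ∈ σ.ker := by
        rw [MonoidHom.mem_ker, map_mul, map_inv, show σ e = σq (q e) from rfl, he, hid, inv_mul_cancel]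
      rw [← he, ← map_inv, ← map_mul]
      refine Subgroup.mem_center_iff.mpr fun g => ?_
      obtain ⟨g, rfl⟩ := QuotientGroup.mk'_surjective N g
      show q g * q _ = q _ * q g
      rw [← map_mul, ← map_mul, Subgroup.mem_center_iff.mp (hker hea) g]
    refine ⟨⁅σ a, σ b⁆, ?_⟩
    conv_rhs => rw [show q a = Ψ (σ a) * ((Ψ (σ a))⁻¹ * q a) by group,
      show q b = Ψ (σ b) * ((Ψ (σ b))⁻¹ * q b) by group]
    rw [StemCert.commutator_mul_central _ _ (hd a) (hd b), map_commutatorElement]
  have hgen : σ.ker ≤ N := fun y hy => by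
    obtain ⟨w, hw⟩ := hc (Subgroup.mem_map_of_mem q (hcm hy))
    have h1 : σq (q y) = 1 := hy
    rw [← hw, hid] at h1
    rw [h1, map_one] at hw
    exact (QuotientGroup.eq_one_iff y).mp hw.symm
  -- conclusion
  rw [mult_even.1] at hu
  have h3 : (u ^ 2) ^ 3 = 1 := by rw [← pow_mul]; exact hu
  have hρu : ∀ y, ρ y ∈ Subgroup.zpowers (u ^ 2) := fun y => by
    obtain ⟨y', hy', e⟩ := hgen y.2
    have : y' = y := Subtype.ext e
    subst this
    clear e
    induction hy' using Subgroup.closure_induction with
    | mem a ha =>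
      obtain ⟨i, rfl⟩ := ha
      obtain ⟨m, hm⟩ := mult_even.2 i i.2
      have := hzu i (by rw [relWordsN_len.2]; exact i.2)
      simp only [zA, dif_pos i.2] at this
      rw [show ρ (z' i) = _ from this, hm, pow_mul]
      exact Subgroup.npow_mem_zpowers _ _
    | one => rw [map_one]; exact one_mem _
    | mul a b _ _ h h' => rw [map_mul]; exact mul_mem h h'
    | inv a _ h => rw [map_inv]; exact inv_mem h
  have hdvd : Nat.card σ.ker ∣ 3 := by
    rw [Nat.card_congr (MonoidHom.ofInjective hρ).toEquiv]
    refine dvd_trans (Subgroup.card_dvd_of_le (fun x ⟨y, hyx⟩ => hyx ▸ hρu y :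
      ρ.range ≤ Subgroup.zpowers (u ^ 2))) ?_
    rw [Nat.card_zpowers]
    exact orderOf_dvd_of_pow_eq_one h3
  have := Fact.mk Nat.prime_three
  have hcyc : IsCyclic σ.ker := by
    rcases (Nat.dvd_prime Nat.prime_three).mp hdvd with h | h
    · have := (Nat.card_eq_one_iff_unique.mp h).1
      exact isCyclic_of_subsingleton
    · exact isCyclic_of_prime_card h
  obtain ⟨v, hv⟩ := IsCyclic.exists_generator (α := σ.ker)
  refine ⟨v, v.2, fun a ha => ?_, ?_⟩
  · obtain ⟨n, hn'⟩ := Subgroup.mem_zpowers_iff.mp (hv ⟨a, ha⟩)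
    exact ⟨n, congrArg Subtype.val hn'⟩
  · have : v ^ 3 = 1 := orderOf_dvd_iff_pow_eq_one.mp ((orderOf_dvd_natCard v).trans hdvd)
    exact congrArg Subtype.val this

end Cfsg.Agent.ONMult
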